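import Groth.Agent.FpFlat.OverMap
import Groth.Agent.ModPull.Criterion

/-!
# Maps from finitely presented modules to flat modules factor locally through finite free modules
-/

set_option linter.style.haveILetI false
set_option backward.isDefEq.respectTransparency false
set_option backward.isDefEq.respectTransparency.types false

universe u

open CategoryTheory CategoryTheory.Limits Opposite

namespace Groth.Agent.FpFlat

variable {C : Type u} [SmallCategory C] {J : GrothendieckTopology C} {O : Sheaf J CommRingCat.{u}}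

lemma res_eq_rs (H : ModSite.Mod O) {V Y : C} (g : V ⟶ Y) (y : ModSite.sect H Y) :
    SuppCore.res H g y = ModTensor.rs ((ModTensor.fg O).obj H) g.op y := rfl

section

variable {F H : ModSite.Mod O} (hH : ModSite.IsFlat H) (φ : F ⟶ H) {Y : C}

/-- The statement to be proved for an arrow. -/
def Good (φ : F ⟶ H) (V : C) : Prop :=
  ∃ (n : ℕ) (a : (ModSite.restr O V).obj F ⟶ SheafOfModules.free (ULift.{u} (Fin n)))
    (b : SheafOfModules.free (ULift.{u} (Fin n)) ⟶ (ModSite.restr O V).obj H),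
    a ≫ b = (ModSite.restr O V).map φ

include hH in
theorem locally_good (P : ((ModSite.restr O Y).obj F).Presentation) [P.IsFinite] :
    ModPull.Locally J Y (fun V _ => Good φ V) := by
  classical
  let σ := P.generators.I
  let ρ := P.relations.I
  haveI : Finite σ := inferInstanceAs (Finite P.generators.I)
  haveI : Finite ρ := inferInstanceAs (Finite P.relations.I)
  obtain ⟨nσ, ⟨eσ⟩⟩ := Finite.exists_equiv_fin σ
  obtain ⟨nρ, ⟨eρ⟩⟩ := Finite.exists_equiv_fin ρ
  haveI : Fintype σ := Fintype.ofFinite σ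
  let u₀ := SheafOfModules.unit (ModSite.ringSh (O.over Y))
  let fr := SheafOfModules.free (R := ModSite.ringSh (O.over Y)) σ
  let ι₀ : σ → (u₀ ⟶ fr) := fun k => SheafOfModules.ιFree k
  let pr : σ → (fr ⟶ u₀) := fun k =>
    Cofan.IsColimit.desc (SheafOfModules.isColimitFreeCofan σ) fun l => if l = k then 𝟙 u₀ else 0
  have hpr : ∀ l k, ι₀ l ≫ pr k = if l = k then 𝟙 u₀ else 0 := fun l k =>
    Cofan.IsColimit.fac (SheafOfModules.isColimitFreeCofan σ) _ l
  have hsum : ∑ k, pr k ≫ ι₀ k = 𝟙 fr := by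
    refine Cofan.IsColimit.hom_ext (SheafOfModules.isColimitFreeCofan σ) _ _ fun l => ?_
    show ι₀ l ≫ (∑ k, pr k ≫ ι₀ k) = ι₀ l ≫ 𝟙 fr
    rw [Preadditive.comp_sum, Finset.sum_eq_single l (fun k _ hk => ?_) (fun h => absurd (Finset.mem_univ _) h)]
    · rw [← Category.assoc, hpr, if_pos rfl, Category.id_comp, Category.comp_id]
    · rw [← Category.assoc, hpr, if_neg hk.symm, zero_comp]
  let rel : SheafOfModules.free (R := ModSite.ringSh (O.over Y)) ρ ⟶ fr :=
    (SheafOfModules.freeHomEquiv _).symm P.relations.s ≫ kernel.ι _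
  let π : fr ⟶ (ModSite.restr O Y).obj F := P.generators.π
  have hrel : rel ≫ π = 0 := by simp [rel, π]
  let ψ : fr ⟶ (ModSite.restr O Y).obj H := π ≫ (ModSite.restr O Y).map φ
  let r : ρ → (u₀ ⟶ fr) := fun l => SheafOfModules.ιFree l ≫ rel
  have hr : ∀ l, ∑ k, (r l ≫ pr k) ≫ (ι₀ k ≫ ψ) = 0 := fun l => by
    have : ∑ k, (r l ≫ pr k) ≫ (ι₀ k ≫ ψ) = r l ≫ (∑ k, pr k ≫ ι₀ k) ≫ ψ := by
      simp only [Preadditive.comp_sum, Preadditive.sum_comp, Category.assoc]
    rw [this, hsum, Category.id_comp]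
    show (SheafOfModules.ιFree l ≫ rel) ≫ π ≫ (ModSite.restr O Y).map φ = 0
    rw [Category.assoc, reassoc_of% hrel, zero_comp, comp_zero]
  let c : Fin nρ → Fin nσ → O.obj.obj (op Y) := fun i j =>
    (show O.obj.obj (op Y) from topVal (r (eρ.symm i) ≫ pr (eσ.symm j)))
  let m : Fin nσ → ((ModTensor.fg O).obj H).obj (op Y) := fun j =>
    (show ((ModTensor.fg O).obj H).obj (op Y) from topVal (ι₀ (eσ.symm j) ≫ ψ))
  have hcm : ∀ i, ∑ j, c i j • m j = 0 := fun i => by
    have h := congrArg topVal (hr (eρ.symm i))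
    rw [topVal_sum, topVal_zero] at h
    refine Eq.trans ?_ h
    refine (Fintype.sum_equiv eσ.symm _ _ fun j => ?_)
    exact (topVal_scalar_comp _ _).symm
  refine (ModPull.exists_trivialisation hH c m hcm).mono fun V g hg => ?_
  obtain ⟨n, N, t, hy, hc⟩ := hg
  haveI := preservesFiniteColimits_mapOver (O := O) g
  haveI := additive_mapOver (O := O) g
  let G := mapOver (O := O) g
  let u₁ := SheafOfModules.unit (ModSite.ringSh (O.over V))
  let fn := SheafOfModules.free (R := ModSite.ringSh (O.over V)) (ULift.{u} (Fin n))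
  let ι₁ : Fin n → (u₁ ⟶ fn) := fun j => SheafOfModules.ιFree ⟨j⟩
  let hG := isColimitCofanMkObjOfIsColimit G _ _ (SheafOfModules.isColimitFreeCofan (R := ModSite.ringSh (O.over Y)) σ)
  let a₀ : G.obj fr ⟶ fn :=
    Cofan.IsColimit.desc hG fun k => (show G.obj u₀ ⟶ fn from ∑ j, scal (N j (eσ k)) ≫ ι₁ j)
  have ha₀ : ∀ k, G.map (ι₀ k) ≫ a₀ = (show G.obj u₀ ⟶ fn from ∑ j, scal (N j (eσ k)) ≫ ι₁ j) := fun k =>
    Cofan.IsColimit.fac hG _ k
  have hra : ∀ l, G.map (r l) ≫ a₀ = 0 := fun l => by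
    have e1 : r l = ∑ k, (r l ≫ pr k) ≫ ι₀ k := by
      conv_lhs => rw [← Category.comp_id (r l), ← hsum, Preadditive.comp_sum]
      simp only [Category.assoc]
    rw [e1, Functor.map_sum, Preadditive.sum_comp]
    simp only [Functor.map_comp, Category.assoc, ha₀, Preadditive.comp_sum]
    rw [Finset.sum_comm]
    refine Finset.sum_eq_zero fun j _ => ?_
    let e : σ → (u₁ ⟶ u₁) := fun k =>
      (show u₁ ⟶ u₁ from G.map (r l ≫ pr k)) ≫ scal (N j (eσ k))
    suffices he : ∑ k, e k = 0 by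
      refine Eq.trans ?_ ((congrArg (· ≫ ι₁ j) he).trans zero_comp)
      rw [Preadditive.sum_comp]
      refine Finset.sum_congr rfl fun k _ => ?_
      show _ = ((show u₁ ⟶ u₁ from G.map (r l ≫ pr k)) ≫ scal (N j (eσ k))) ≫ ι₁ j
      rw [Category.assoc, ← G.map_comp_assoc]
    refine topVal_ext ?_
    rw [topVal_sum, topVal_zero]
    refine Eq.trans ?_ (hc (eρ l) j)
    refine Fintype.sum_equiv eσ _ _ fun k => ?_
    refine (topVal_scalar_comp _ _).trans ?_
    show (show O.obj.obj (op V) from topVal (show u₁ ⟶ u₁ from G.map (r l ≫ pr k))) *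
      (show O.obj.obj (op V) from topVal (scal (N j (eσ k)))) = _
    rw [topVal_map_mapOver_scalar, topVal_scal]
    show _ = (O.obj.map g.op).hom (topVal (r (eρ.symm (eρ l)) ≫ pr (eσ.symm (eσ k)))) * _
    rw [Equiv.symm_apply_apply, Equiv.symm_apply_apply]
  have hrel' : G.map rel ≫ a₀ = 0 := by
    refine Cofan.IsColimit.hom_ext (isColimitCofanMkObjOfIsColimit G _ _
      (SheafOfModules.isColimitFreeCofan (R := ModSite.ringSh (O.over Y)) ρ)) _ _ fun l => ?_
    show G.map (SheafOfModules.ιFree l) ≫ G.map rel ≫ a₀ = G.map (SheafOfModules.ιFree l) ≫ 0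
    rw [← G.map_comp_assoc, hra, comp_zero]
  haveI : G.Additive := inferInstanceAs (mapOver (O := O) g).Additive
  let hK := CokernelCofork.mapIsColimit _ P.isColimit G
  let a₁ : G.obj ((ModSite.restr O Y).obj F) ⟶ fn := Cofork.IsColimit.desc hK a₀ (by rw [zero_comp]; exact hrel')
  have ha₁ : G.map π ≫ a₁ = a₀ := Cofork.IsColimit.π_desc' hK _ _
  let eF : G.obj ((ModSite.restr O Y).obj F) ≅ (ModSite.restr O V).obj F :=
    (SheafOfModules.overFunctorMap (ModSite.ringSh O) g).app F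
  let eH : G.obj ((ModSite.restr O Y).obj H) ≅ (ModSite.restr O V).obj H :=
    (SheafOfModules.overFunctorMap (ModSite.ringSh O) g).app H
  have hnat : G.map ((ModSite.restr O Y).map φ) ≫ eH.hom = eF.hom ≫ (ModSite.restr O V).map φ :=
    (SheafOfModules.overFunctorMap (ModSite.ringSh O) g).hom.naturality φ
  let b : fn ⟶ (ModSite.restr O V).obj H :=
    Cofan.IsColimit.desc (SheafOfModules.isColimitFreeCofan _) fun j => SuppCore.overUnitHom H (t j.down)
  refine ⟨n, eF.inv ≫ a₁, b, ?_⟩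
  rw [Category.assoc, ← cancel_epi eF.hom, Iso.hom_inv_id_assoc]
  refine Eq.trans ?_ hnat
  haveI : Epi π := P.generators.epi
  haveI : Epi (G.map π) := epi_mapOver_map g π
  rw [← cancel_epi (G.map π), reassoc_of% ha₁]
  refine Cofan.IsColimit.hom_ext hG _ _ fun k => ?_
  show G.map (ι₀ k) ≫ a₀ ≫ b = G.map (ι₀ k) ≫ G.map π ≫ G.map ((ModSite.restr O Y).map φ) ≫ eH.hom
  rw [reassoc_of% ha₀, ← G.map_comp_assoc, ← G.map_comp_assoc]
  refine topVal_ext (V := V) ?_
  refine Eq.trans ?_ (topVal_map_mapOver g H _).symm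
  have hm : (show ModSite.sect ((ModSite.restr O Y).obj H) (Over.mk (𝟙 Y)) from m (eσ k)) =
      topVal ((ι₀ k ≫ π) ≫ (ModSite.restr O Y).map φ) := by
    show topVal (ι₀ (eσ.symm (eσ k)) ≫ π ≫ (ModSite.restr O Y).map φ) = _
    rw [Equiv.symm_apply_apply, Category.assoc]
  rw [← hm]
  refine Eq.trans ?_ ((res_eq_rs H g _).trans (hy (eσ k))).symm
  show topVal ((∑ j, scal (N j (eσ k)) ≫ ι₁ j) ≫ b) = _
  rw [Preadditive.sum_comp, topVal_sum]
  refine Finset.sum_congr rfl fun j _ => ?_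
  rw [Category.assoc, topVal_scalar_comp]
  have hb : ι₁ j ≫ b = SuppCore.overUnitHom H (t j) := Cofan.IsColimit.fac _ _ (ULift.up j)
  rw [hb, topVal_overUnitHom]
  exact congrArg (· • t j) (topVal_scal _)

end

/-- Maps from finitely presented modules to flat modules factor locally through finite free modules. -/
theorem exists_local_factorisation (F H : ModSite.Mod O) [F.IsFinitePresentation] (hH : ModSite.IsFlat H)
    (φ : F ⟶ H) (X : C) :
    ∃ (ι : Type u) (Y : ι → C) (g : ∀ i, Y i ⟶ X), Sieve.ofArrows Y g ∈ J X ∧ ∀ i, Good φ (Y i) := by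
  obtain ⟨q, hq⟩ := SheafOfModules.IsFinitePresentation.exists_quasicoherentData F
  haveI := hq
  have hloc := fun i => @locally_good C _ J O F H hH φ (q.X i) (q.presentation i) (hq.isFinite_presentation i)
  choose S hS hgood using fun i => hloc i
  refine ⟨Σ W : C, {h : W ⟶ X // Good φ W}, fun w => w.1, fun w => w.2.1, ?_, fun w => w.2.2⟩
  refine J.transitive (q.coversTop X) _ fun Z f hf => ?_
  obtain ⟨i, ⟨v⟩⟩ := (Sieve.mem_ofObjects_iff ..).mp hf
  refine J.superset_covering (fun W k hk => ?_) (J.pullback_stable v (hS i))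
  exact ⟨W, 𝟙 W, k ≫ f, Presieve.ofArrows.mk (Y := fun w : Σ W : C, {h : W ⟶ X // Good φ W} => w.1)
    (f := fun w => w.2.1) ⟨W, k ≫ f, hgood i _ hk⟩, Category.id_comp _⟩

end Groth.Agent.FpFlat
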